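import Cfsg.Prelude.Def_GeometricClasses
import Cfsg.Agent.Eq.Def_GeometricClasses

/-!
The special linear group is contained in none of the geometric members of the linear case.
-/

set_option autoImplicit false

namespace CfsgLib.Aschbacher

open Matrix
open scoped Kronecker

variable {ι : Type} [Fintype ι] [DecidableEq ι] {F : Type*} [Field F]

local notation "GLm" => Matrix.GeneralLinearGroup

/-- The transvection `x ↦ x + (φ ⬝ x) • w` for `φ ⬝ w = 0`. -/
def tv (w φ : ι → F) (h : φ ⬝ᵥ w = 0) : GLm ι F where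
  val := 1 + vecMulVec w φ
  inv := 1 - vecMulVec w φ
  val_inv := by
    have h2 : vecMulVec w φ * vecMulVec w φ = 0 := by
      rw [vecMulVec_mul_vecMulVec, h, zero_smul]
      ext i j; simp [vecMulVec_apply]
    rw [add_mul, mul_sub, mul_sub, h2, one_mul, mul_one, one_mul, sub_zero, sub_add_cancel]
  inv_val := by
    have h2 : vecMulVec w φ * vecMulVec w φ = 0 := by
      rw [vecMulVec_mul_vecMulVec, h, zero_smul]
      ext i j; simp [vecMulVec_apply]
    rw [sub_mul, mul_add, mul_add, h2, one_mul, mul_one, one_mul, add_zero, add_sub_cancel_right]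

lemma tv_mulVec (w φ x : ι → F) (h : φ ⬝ᵥ w = 0) :
    (tv w φ h : Matrix ι ι F) *ᵥ x = x + (φ ⬝ᵥ x) • w := by
  show (1 + vecMulVec w φ) *ᵥ x = _
  rw [add_mulVec, one_mulVec, vecMulVec_mulVec]
  ext i; simp [mul_comm]

lemma tv_mem_specialLinear (w φ : ι → F) (h : φ ⬝ᵥ w = 0) :
    tv w φ h ∈ Cfsg.Geo.specialLinear ι F := by
  rw [Cfsg.Geo.specialLinear, MonoidHom.mem_ker]
  apply Units.ext
  show (1 + vecMulVec w φ).det = 1
  rw [vecMulVec_eq Unit, det_one_add_replicateCol_mul_replicateRow, h, add_zero]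

lemma conj_mem_specialLinear (P : GLm ι F) {g : GLm ι F} (hg : g ∈ Cfsg.Geo.specialLinear ι F) :
    P * g * P⁻¹ ∈ Cfsg.Geo.specialLinear ι F :=
  (MonoidHom.normal_ker (Matrix.GeneralLinearGroup.det : GLm ι F →* Fˣ)).conj_mem g hg P

/-- If `H` is maximal in `K` and lies in a subgroup `M` not containing `K`, then `H = M ⊓ K`. -/
lemma eq_inf_of_le {G : Type*} [Group G] {K H M : Subgroup G} (hH : Cfsg.Geo.IsMaximalIn K H)
    (hle : H ≤ M) (hM : ¬ K ≤ M) : H = M ⊓ K := by
  rcases hH.2 (M ⊓ K) (le_inf hle hH.1.le) inf_le_right with h | h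
  · exact h.symm
  · exact absurd (h ▸ inf_le_left) hM

/-! ### Linear algebra -/

omit [DecidableEq ι] in
lemma exists_dual_of_not_mem {W : Submodule F (ι → F)} {v : ι → F} (hv : v ∉ W) :
    ∃ φ : ι → F, φ ⬝ᵥ v = 1 ∧ ∀ w ∈ W, φ ⬝ᵥ w = 0 := by
  classical
  obtain ⟨f, hf, hker⟩ := Submodule.exists_le_ker_of_notMem (p := W) hv
  have key : ∀ x : ι → F, (fun i => (f v)⁻¹ * f (Pi.single i 1)) ⬝ᵥ x = (f v)⁻¹ * f x := by
    intro x
    conv_rhs => rw [pi_eq_sum_univ' x, map_sum]
    rw [dotProduct, Finset.mul_sum]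
    refine Finset.sum_congr rfl fun i _ => ?_
    rw [map_smul, smul_eq_mul]; ring
  refine ⟨_, by rw [key]; exact inv_mul_cancel₀ hf, fun w hw => ?_⟩
  have hfw : f w = 0 := hker hw
  rw [key, hfw, mul_zero]

omit [DecidableEq ι] in
lemma rank_add_le' (A B : Matrix ι ι F) : (A + B).rank ≤ A.rank + B.rank := by
  rw [Matrix.rank, Matrix.rank, Matrix.rank, Matrix.mulVecLin_add]
  exact (Submodule.finrank_mono (LinearMap.range_add_le _ _)).trans
    (Submodule.finrank_add_le_finrank_add_finrank _ _)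

/-! ### The members -/

theorem not_le_subspaceStabilizer {W : Submodule F (ι → F)} (h0 : W ≠ ⊥) (h1 : W ≠ ⊤) :
    ¬ Cfsg.Geo.specialLinear ι F ≤ Cfsg.Geo.subspaceStabilizer W := by
  intro hle
  obtain ⟨v, hvW, hv⟩ := W.exists_mem_ne_zero_of_ne_bot h0
  obtain ⟨u, hu⟩ : ∃ u, u ∉ W := by
    by_contra hc
    push Not at hc
    exact h1 (eq_top_iff.2 fun x _ => hc x)
  have hnot : v ∉ Submodule.span F {u} := by
    intro hmem
    obtain ⟨c, rfl⟩ := Submodule.mem_span_singleton.1 hmem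
    apply hu
    have hc : c ≠ 0 := fun h => hv (by simp [h])
    simpa [smul_smul, inv_mul_cancel₀ hc] using W.smul_mem c⁻¹ hvW
  obtain ⟨φ, hφv, hφu⟩ := exists_dual_of_not_mem hnot
  have hd := hφu u (Submodule.mem_span_singleton_self u)
  have h := hle (tv_mem_specialLinear u φ hd) v
  have h2 : v + (φ ⬝ᵥ v) • u ∈ W := by
    rw [← tv_mulVec u φ v hd]; exact h.1 hvW
  rw [hφv, one_smul, W.add_mem_iff_right hvW] at h2
  exact hu h2

theorem not_le_decompositionStabilizer {t m : ℕ} {D : Fin t → Submodule F (ι → F)}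
    (hD : Cfsg.Geo.IsMDecomposition m D) :
    ¬ Cfsg.Geo.specialLinear ι F ≤ Cfsg.Geo.decompositionStabilizer D := by
  intro hle
  have hne : ∀ i, D i ≠ ⊥ := by
    intro i h
    have := hD.finrank_eq i
    rw [h, finrank_bot] at this
    exact absurd this.symm hD.pos.ne'
  let i0 : Fin t := ⟨0, by have := hD.two_le; omega⟩
  let i1 : Fin t := ⟨1, by have := hD.two_le; omega⟩
  have h01 : i0 ≠ i1 := by simp [i0, i1, Fin.ext_iff]
  obtain ⟨v, hv, hv0⟩ := (D i0).exists_mem_ne_zero_of_ne_bot (hne i0)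
  obtain ⟨w, hw, hw0⟩ := (D i1).exists_mem_ne_zero_of_ne_bot (hne i1)
  have hd : Disjoint (D i0) (D i1) := hD.indep.pairwiseDisjoint h01
  have hnot : v ∉ D i1 := fun h => hv0 (Submodule.disjoint_def.1 hd v hv h)
  obtain ⟨φ, hφv, hφD⟩ := exists_dual_of_not_mem hnot
  obtain ⟨σ, hσ⟩ := hle (tv_mem_specialLinear w φ (hφD w hw))
  have hmem : v + w ∈ D (σ i0) := by
    have h := Submodule.mem_map_of_mem (f := Matrix.toLin' (tv w φ (hφD w hw) : Matrix ι ι F)) hv
    rw [hσ, Matrix.toLin'_apply, tv_mulVec, hφv, one_smul] at h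
    exact h
  rcases eq_or_ne (σ i0) i0 with h | h
  · rw [h, (D i0).add_mem_iff_right hv] at hmem
    exact hw0 (Submodule.disjoint_def.1 hd w hmem hw)
  · by_cases h' : σ i0 = i1
    · rw [h', (D i1).add_mem_iff_left hw] at hmem
      exact hnot hmem
    · have hle1 : D i0 ⊔ D i1 ≤ ⨆ (j : Fin t) (_ : j ≠ σ i0), D j :=
        sup_le (le_iSup₂ (f := fun j (_ : j ≠ σ i0) => D j) i0 (Ne.symm h))
          (le_iSup₂ (f := fun j (_ : j ≠ σ i0) => D j) i1 (Ne.symm h'))
      have hvw : v + w ∈ ⨆ (j : Fin t) (_ : j ≠ σ i0), D j :=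
        hle1 (Submodule.add_mem_sup hv hw)
      have hz : v + w = 0 := Submodule.disjoint_def.1 (hD.indep (σ i0)) _ hmem hvw
      rw [add_eq_zero_iff_eq_neg] at hz
      exact hnot (hz ▸ (D i1).neg_mem hw)

theorem not_le_subalgebraNormalizer (hn : 3 ≤ Fintype.card ι) {r : ℕ} {K : Subalgebra F (Matrix ι ι F)}
    (hK : Cfsg.Geo.IsFieldSubalgebra r K) (hr : 2 ≤ r) :
    ¬ Cfsg.Geo.specialLinear ι F ≤ Cfsg.Geo.subalgebraNormalizer K := by
  intro hle
  obtain ⟨k, hk, hns⟩ : ∃ k ∈ K, k ∉ (⊥ : Subalgebra F (Matrix ι ι F)) := by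
    by_contra hc
    push Not at hc
    have h : K = ⊥ := le_bot_iff.1 hc
    have hfr := hK.finrank_eq
    have hne : Nonempty ι := Fintype.card_pos_iff.1 (by omega)
    rw [h, Subalgebra.finrank_bot] at hfr
    omega
  -- k commutes with every transvection
  have hcomm : ∀ (w φ : ι → F) (h : φ ⬝ᵥ w = 0), k * vecMulVec w φ = vecMulVec w φ * k := by
    intro w φ h
    set T := tv w φ h
    have hT := (hle (tv_mem_specialLinear w φ h) k).1 hk
    set x := (T : Matrix ι ι F) * k * ((T⁻¹ : GLm ι F) : Matrix ι ι F) - k with hx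
    have hxK : x ∈ K := sub_mem hT hk
    by_cases hx0 : x = 0
    · have h1 : (T : Matrix ι ι F) * k = k * (T : Matrix ι ι F) := by
        rw [hx, sub_eq_zero] at hx0
        calc (T : Matrix ι ι F) * k
            = (T : Matrix ι ι F) * k * (((T⁻¹ : GLm ι F) : Matrix ι ι F) * (T : Matrix ι ι F)) := by
              rw [← Units.val_mul, inv_mul_cancel, Units.val_one, mul_one]
          _ = k * (T : Matrix ι ι F) := by rw [← mul_assoc, hx0]
      change (1 + vecMulVec w φ) * k = k * (1 + vecMulVec w φ) at h1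
      rw [add_mul, mul_add, one_mul, mul_one, add_right_inj] at h1
      exact h1.symm
    · -- x is invertible but has rank at most two
      exfalso
      obtain ⟨y, -, hy⟩ := hK.inv x hxK hx0
      have hxu : IsUnit x.det := by
        have := congrArg Matrix.det hy
        rw [det_mul, det_one] at this
        exact IsUnit.of_mul_eq_one _ this
      have hrank : x.rank = Fintype.card ι := Matrix.rank_of_isUnit x ((Matrix.isUnit_iff_isUnit_det x).2 hxu)
      have hN : (vecMulVec w φ).rank ≤ 1 := Matrix.rank_vecMulVec_le w φ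
      have hexp : x = (vecMulVec w φ * k - k * vecMulVec w φ) * ((T⁻¹ : GLm ι F) : Matrix ι ι F) := by
        have hk' : k = k * (T : Matrix ι ι F) * ((T⁻¹ : GLm ι F) : Matrix ι ι F) := by
          rw [mul_assoc, ← Units.val_mul, mul_inv_cancel, Units.val_one, mul_one]
        rw [hx]
        nth_rewrite 2 [hk']
        rw [← sub_mul]
        congr 1
        change (1 + vecMulVec w φ) * k - k * (1 + vecMulVec w φ) = _
        rw [add_mul, mul_add, one_mul, mul_one]
        abel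
      have h2 : x.rank ≤ 2 := by
        rw [hexp]
        refine (Matrix.rank_mul_le_left _ _).trans ?_
        rw [sub_eq_add_neg, ← neg_mul]
        refine (rank_add_le' _ _).trans ?_
        have e1 := (Matrix.rank_mul_le_left (vecMulVec w φ) k).trans hN
        have e2 : (-k * vecMulVec w φ).rank ≤ 1 := (Matrix.rank_mul_le_right _ _).trans hN
        omega
      omega
  apply hns
  rw [Algebra.mem_bot]
  have : k ∈ Set.range (Matrix.scalar ι) := by
    refine Matrix.mem_range_scalar_of_commute_single fun i j hij => ?_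
    have h := hcomm (Pi.single i 1) (Pi.single j 1) (by simp [hij.symm, Pi.single_apply])
    rw [← Matrix.single_eq_single_vecMulVec_single] at h
    exact h.symm
  obtain ⟨c, hc⟩ := this
  exact ⟨c, by rw [← hc]; rfl⟩

theorem not_le_tensorProductSubgroup {n₁ n₂ : ℕ} (h₁ : 2 ≤ n₁) (h₂ : 2 ≤ n₂)
    (e : ι ≃ Fin n₁ × Fin n₂) (P : GLm ι F) :
    ¬ Cfsg.Geo.specialLinear ι F ≤ Cfsg.Geo.tensorProductSubgroup n₁ n₂ e P := by
  intro hle
  let a0 : Fin n₁ := ⟨0, by omega⟩
  let a1 : Fin n₁ := ⟨1, by omega⟩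
  let b0 : Fin n₂ := ⟨0, by omega⟩
  let b1 : Fin n₂ := ⟨1, by omega⟩
  have ha : a0 ≠ a1 := by simp [a0, a1, Fin.ext_iff]
  have hb : b0 ≠ b1 := by simp [b0, b1, Fin.ext_iff]
  let i := e.symm (a0, b0)
  let j := e.symm (a1, b1)
  have hij : i ≠ j := fun h => ha (congrArg Prod.fst (e.symm.injective h))
  have hd : (Pi.single j (1 : F)) ⬝ᵥ (Pi.single i 1) = 0 := by simp [hij.symm, Pi.single_apply]
  set T := tv (Pi.single i 1) (Pi.single j (1 : F)) hd
  have h := hle (conj_mem_specialLinear P (tv_mem_specialLinear (Pi.single i 1) (Pi.single j (1 : F)) hd))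
  rw [Cfsg.Geo.tensorProductSubgroup, Subgroup.mem_map] at h
  obtain ⟨g, hg, hge⟩ := h
  have hgT : g = T := (MulAut.conj P).injective hge
  subst hgT
  rw [Subgroup.mem_map] at hg
  obtain ⟨k, ⟨a, b, hk⟩, hkT⟩ := hg
  have hval : ∀ x y : Fin n₁ × Fin n₂, (a : Matrix _ _ F) x.1 y.1 * (b : Matrix _ _ F) x.2 y.2
      = (T : Matrix ι ι F) (e.symm x) (e.symm y) := by
    intro x y
    rw [← hkT]
    show _ = ((Matrix.reindexAlgEquiv F F e.symm) (k : Matrix _ _ F)) (e.symm x) (e.symm y)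
    rw [Matrix.coe_reindexAlgEquiv, Matrix.reindex_apply, Matrix.submatrix_apply, hk]
    simp
  have hT : ∀ x y, (T : Matrix ι ι F) x y = (1 : Matrix ι ι F) x y + (Pi.single i (1 : F) : ι → F) x * (Pi.single j (1 : F) : ι → F) y :=
    fun x y => rfl
  have p1 := hval (a0, b0) (a1, b1)
  have p2 := hval (a0, b0) (a1, b0)
  have p3 := hval (a0, b0) (a0, b0)
  rw [hT] at p1 p2 p3
  have q1 : (a : Matrix _ _ F) a0 a1 * (b : Matrix _ _ F) b0 b1 = 1 := by
    simpa [i, j, Matrix.one_apply, hij, ha, ha.symm] using p1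
  have q2 : (a : Matrix _ _ F) a0 a1 * (b : Matrix _ _ F) b0 b0 = 0 := by
    simpa [i, j, Matrix.one_apply, Pi.single_apply, ha, ha.symm, hb, hb.symm, e.symm.injective.eq_iff] using p2
  have q3 : (a : Matrix _ _ F) a0 a0 * (b : Matrix _ _ F) b0 b0 = 1 := by
    simpa [i, j, Matrix.one_apply, Pi.single_apply, ha, ha.symm, hb, hb.symm, e.symm.injective.eq_iff] using p3
  rcases mul_eq_zero.1 q2 with h | h
  · rw [h, zero_mul] at q1; exact zero_ne_one q1
  · rw [h, mul_zero] at q3; exact zero_ne_one q3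

lemma mem_subfieldSubgroup_iff {F₀ : Subfield F} {P g : GLm ι F} :
    g ∈ Cfsg.Geo.subfieldSubgroup F₀ P ↔ ∃ (s : GLm ι F₀) (c : Fˣ),
      (P⁻¹ * g * P : GLm ι F) = Matrix.GeneralLinearGroup.map (F₀.subtype : F₀ →+* F) s *
        Units.map (Matrix.scalar ι : F →+* Matrix ι ι F).toMonoidHom c := by
  rw [Cfsg.Geo.subfieldSubgroup, Subgroup.mem_map]
  constructor
  · rintro ⟨x, hx, rfl⟩
    rw [Subgroup.mem_sup_of_normal_right] at hx
    obtain ⟨y, ⟨s, rfl⟩, z, ⟨c, rfl⟩, rfl⟩ := hx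
    exact ⟨s, c, by simp [mul_assoc]⟩
  · rintro ⟨s, c, h⟩
    refine ⟨P⁻¹ * g * P, ?_, by simp [mul_assoc]⟩
    rw [h]
    exact Subgroup.mul_mem_sup ⟨s, rfl⟩ ⟨c, rfl⟩

theorem not_le_subfieldSubgroup (hn : 2 ≤ Fintype.card ι) {F₀ : Subfield F} (hF : F₀ ≠ ⊤) (P : GLm ι F) :
    ¬ Cfsg.Geo.specialLinear ι F ≤ Cfsg.Geo.subfieldSubgroup F₀ P := by
  intro hle
  obtain ⟨c, hc⟩ : ∃ c, c ∉ F₀ := by
    by_contra hall
    push Not at hall
    exact hF (eq_top_iff.2 fun x _ => hall x)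
  obtain ⟨i, j, hij⟩ := Fintype.exists_pair_of_one_lt_card (show 1 < Fintype.card ι by omega)
  have hd : (Pi.single j (1 : F)) ⬝ᵥ (Pi.single i c) = 0 := by simp [hij.symm, Pi.single_apply]
  set T := tv (Pi.single i c) (Pi.single j (1 : F)) hd
  have h := hle (conj_mem_specialLinear P (tv_mem_specialLinear (Pi.single i c) (Pi.single j (1 : F)) hd))
  obtain ⟨s, d, hsd⟩ := mem_subfieldSubgroup_iff.1 h
  rw [show P⁻¹ * (P * T * P⁻¹) * P = T by simp [mul_assoc]] at hsd
  have hval : ∀ x y, (T : Matrix ι ι F) x y = ((s : Matrix ι ι F₀) x y : F) * (d : F) := by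
    intro x y
    rw [hsd, Units.val_mul, Matrix.mul_apply]
    show ∑ z, ((s : Matrix ι ι F₀) x z : F) * (Matrix.scalar ι (d : F)) z y = _
    simp [Matrix.diagonal, Finset.sum_ite_eq']
  have hT : ∀ x y, (T : Matrix ι ι F) x y = (1 : Matrix ι ι F) x y + (Pi.single i c : ι → F) x * (Pi.single j (1 : F) : ι → F) y :=
    fun x y => rfl
  have p1 : ((s : Matrix ι ι F₀) i i : F) * d = 1 := by
    rw [← hval, hT]; simp [Pi.single_apply, hij]
  have p2 : ((s : Matrix ι ι F₀) i j : F) * d = c := by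
    rw [← hval, hT]; simp [hij]
  have hd0 : (d : F) ∈ F₀ := by
    rw [show (d : F) = ((s : Matrix ι ι F₀) i i : F)⁻¹ from eq_inv_of_mul_eq_one_right p1]
    exact F₀.inv_mem ((s : Matrix ι ι F₀) i i).2
  exact hc (p2 ▸ F₀.mul_mem ((s : Matrix ι ι F₀) i j).2 hd0)

theorem not_le_similarityGroup (hn : 3 ≤ Fintype.card ι) {f : (ι → F) → (ι → F) → F}
    (hadd : ∀ x y v, f (x + y) v = f x v + f y v) (hsmul : ∀ (c : F) x v, f (c • x) v = c * f x v)
    (hadd' : ∀ v x y, f v (x + y) = f v x + f v y) (hnd : Cfsg.Geo.IsNondegenerateForm f) :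
    ¬ Cfsg.Geo.specialLinear ι F ≤ Cfsg.Geo.similarityGroup f := by
  intro hle
  let L : (ι → F) → ((ι → F) →ₗ[F] F) := fun v =>
    { toFun := fun x => f x v, map_add' := fun x y => hadd x y v, map_smul' := fun c x => hsmul c x v }
  let i : ι := Classical.choice (Fintype.card_pos_iff.1 (by omega))
  set w : ι → F := Pi.single i 1 with hwdef
  have hw : w ≠ 0 := by
    intro h
    simpa [w] using congrFun h i
  set K := LinearMap.ker (L w)
  obtain ⟨u0, hu0⟩ : ∃ x, f x w ≠ 0 := (hnd w hw).1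
  -- choose φ killing w, not proportional to `f · w`
  obtain ⟨y, hyK, hy⟩ : ∃ y ∈ K, y ∉ Submodule.span F {w} := by
    by_contra hc
    push Not at hc
    have h1 := Submodule.finrank_mono (show K ≤ Submodule.span F {w} from hc)
    rw [finrank_span_singleton hw] at h1
    have h2 := LinearMap.finrank_range_add_finrank_ker (L w)
    have h3 : Module.finrank F (LinearMap.range (L w)) ≤ 1 :=
      (Submodule.finrank_le _).trans (Module.finrank_self F).le
    rw [Module.finrank_pi] at h2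
    change _ + Module.finrank F K = _ at h2
    omega
  obtain ⟨φ, hφy, hφw⟩ := exists_dual_of_not_mem hy
  have hφw0 : φ ⬝ᵥ w = 0 := hφw w (Submodule.mem_span_singleton_self w)
  obtain ⟨c, hc⟩ := hle (tv_mem_specialLinear w φ hφw0)
  set u := u0 - (φ ⬝ᵥ u0) • y with hu
  have hφu : φ ⬝ᵥ u = 0 := by simp [hu, dotProduct_sub, dotProduct_smul, hφy]
  have hfu : f u w ≠ 0 := by
    have hy0 : f y w = 0 := by simpa [K, L] using hyK
    have : f u w = f u0 w := by
      have h := hadd (u0 - (φ ⬝ᵥ u0) • y) ((φ ⬝ᵥ u0) • y) w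
      rw [sub_add_cancel, hsmul, hy0, mul_zero, add_zero] at h
      exact h.symm
    rw [this]; exact hu0
  have e1 := hc u w
  rw [tv_mulVec, tv_mulVec, hφu, hφw0, zero_smul, add_zero, add_zero] at e1
  have hc1 : (c : F) = 1 := by
    have : ((c : F) - 1) * f u w = 0 := by rw [sub_mul, one_mul, ← e1, sub_self]
    exact sub_eq_zero.1 ((mul_eq_zero.1 this).resolve_right hfu)
  have e2 := hc u y
  rw [tv_mulVec, tv_mulVec, hφu, hφy, zero_smul, add_zero, one_smul, hadd', hc1, one_mul] at e2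
  exact hfu (by simpa using e2)

theorem not_le_quadSimilarityGroup (hn : 3 ≤ Fintype.card ι) {Q : (ι → F) → F}
    (hQ : Cfsg.Geo.IsNondegenerateQuadraticForm Q) :
    ¬ Cfsg.Geo.specialLinear ι F ≤ Cfsg.Geo.quadSimilarityGroup Q := by
  intro hle
  refine not_le_similarityGroup hn hQ.polar_bilinear.add_left hQ.polar_bilinear.smul_left
    hQ.polar_bilinear.add_right hQ.nondegenerate fun g hg => ?_
  obtain ⟨c, hc⟩ := hle hg
  refine ⟨c, fun u v => ?_⟩
  simp only [QuadraticMap.polar, ← Matrix.mulVec_add, hc]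
  ring

end CfsgLib.Aschbacher
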