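import Cfsg.Prelude.Def_GeometricClasses
import Cfsg.Agent.Eq.Def_GeometricClasses

/-!
A copy of a full matrix algebra inside a matrix algebra is a tensor factor, and the normaliser of
such a copy is the group of Kronecker products.
-/

set_option autoImplicit false

namespace CfsgLib.Aschbacher

open Matrix
open scoped Kronecker

variable {ι : Type} [Fintype ι] [DecidableEq ι] {F : Type*} [Field F]

local notation "GLm" => Matrix.GeneralLinearGroup

/-- Conjugation of matrices by an invertible matrix. -/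
def conjAlg (P : GLm ι F) : Matrix ι ι F ≃ₐ[F] Matrix ι ι F where
  toFun X := (P : Matrix ι ι F) * X * ((P⁻¹ : GLm ι F) : Matrix ι ι F)
  invFun X := ((P⁻¹ : GLm ι F) : Matrix ι ι F) * X * (P : Matrix ι ι F)
  left_inv X := by simp [← mul_assoc]
  right_inv X := by simp [← mul_assoc]
  map_mul' X Y := by
    simp only [mul_assoc]
    rw [← mul_assoc ((P⁻¹ : GLm ι F) : Matrix ι ι F) (P : Matrix ι ι F), ← Units.val_mul,
      inv_mul_cancel, Units.val_one, one_mul]
  map_add' X Y := by rw [mul_add, add_mul]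
  commutes' c := by
    rw [← Algebra.commutes, mul_assoc, ← Units.val_mul, mul_inv_cancel, Units.val_one, mul_one]

lemma conjAlg_apply (P : GLm ι F) (X : Matrix ι ι F) :
    conjAlg P X = (P : Matrix ι ι F) * X * ((P⁻¹ : GLm ι F) : Matrix ι ι F) := rfl

lemma conjAlg_mul (P Q : GLm ι F) (X : Matrix ι ι F) :
    conjAlg (P * Q) X = conjAlg P (conjAlg Q X) := by
  simp only [conjAlg_apply, _root_.mul_inv_rev, Units.val_mul, mul_assoc]

lemma conjAlg_one (X : Matrix ι ι F) : conjAlg (1 : GLm ι F) X = X := by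
  simp [conjAlg_apply]

/-- Coordinates adapted to a tensor decomposition. -/
def tconj {κ : Type} [Fintype κ] [DecidableEq κ] (e : ι ≃ κ) (P : GLm ι F) :
    Matrix κ κ F ≃ₐ[F] Matrix ι ι F :=
  (Matrix.reindexAlgEquiv F F e.symm).trans (conjAlg P)

lemma tconj_apply {κ : Type} [Fintype κ] [DecidableEq κ] (e : ι ≃ κ) (P : GLm ι F) (X : Matrix κ κ F) :
    tconj e P X = (P : Matrix ι ι F) * X.submatrix e e * ((P⁻¹ : GLm ι F) : Matrix ι ι F) := rfl

lemma mem_tensorProductSubgroup_iff {n₁ n₂ : ℕ} (e : ι ≃ Fin n₁ × Fin n₂) (P g : GLm ι F) :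
    g ∈ Cfsg.Geo.tensorProductSubgroup n₁ n₂ e P ↔ ∃ (a : GLm (Fin n₁) F) (b : GLm (Fin n₂) F),
      (g : Matrix ι ι F) = tconj e P ((a : Matrix _ _ F) ⊗ₖ (b : Matrix _ _ F)) := by
  rw [Cfsg.Geo.tensorProductSubgroup, Subgroup.mem_map]
  constructor
  · rintro ⟨x, hx, rfl⟩
    obtain ⟨k, ⟨a, b, hk⟩, rfl⟩ := Subgroup.mem_map.1 hx
    refine ⟨a, b, ?_⟩
    rw [← hk]
    rfl
  · rintro ⟨a, b, hg⟩
    have hu : IsUnit ((a : Matrix (Fin n₁) (Fin n₁) F) ⊗ₖ (b : Matrix (Fin n₂) (Fin n₂) F)) := by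
      rw [← isUnit_map_iff (tconj e P), ← hg]; exact g.isUnit
    obtain ⟨k, hk⟩ := hu
    refine ⟨Cfsg.Geo.glReindex e.symm k, Subgroup.mem_map.2 ⟨k, ⟨a, b, hk⟩, rfl⟩, ?_⟩
    apply Units.ext
    rw [hg, ← hk]
    rfl

/-- Matrix units give a basis adapted to a tensor decomposition. -/
theorem exists_tensor_basis {d : ℕ} [NeZero d] (φ : Matrix (Fin d) (Fin d) F →ₐ[F] Matrix ι ι F) :
    ∃ (k : ℕ) (b : Module.Basis (Fin d × Fin k) F (ι → F)),
      ∀ (X : Matrix (Fin d) (Fin d) F) (j : Fin d) (l : Fin k),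
        φ X *ᵥ b (j, l) = ∑ i, X i j • b (i, l) := by
  let E : Fin d → Fin d → Matrix (Fin d) (Fin d) F := fun i j => Matrix.single i j 1
  let W := LinearMap.range (Matrix.toLin' (φ (E 0 0)))
  let bW := Module.finBasis F W
  let v : Fin d × Fin (Module.finrank F W) → (ι → F) := fun z => φ (E z.1 0) *ᵥ ((bW z.2 : W) : ι → F)
  have hEv : ∀ (a c i : Fin d) (l), φ (E a c) *ᵥ v (i, l) = if c = i then v (a, l) else 0 := by
    intro a c i l
    show φ (E a c) *ᵥ (φ (E i 0) *ᵥ _) = _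
    rw [Matrix.mulVec_mulVec, ← map_mul]
    by_cases h : c = i
    · subst h; simp [E, v]
    · simp [E, Matrix.single_mul_single_of_ne _ _ _ _ h, if_neg h]
  have hW : ∀ l, φ (E 0 0) *ᵥ ((bW l : W) : ι → F) = (bW l : W) := by
    intro l
    obtain ⟨x, hx⟩ := (bW l).2
    rw [← hx, Matrix.toLin'_apply, Matrix.mulVec_mulVec, ← map_mul]
    simp [E]
  have hli : LinearIndependent F v := by
    rw [Fintype.linearIndependent_iff]
    intro g hg z
    have h := congrArg (fun x => φ (E 0 z.1) *ᵥ x) hg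
    simp only [Matrix.mulVec_sum, Matrix.mulVec_smul, Matrix.mulVec_zero] at h
    have h2 : ∑ l, g (z.1, l) • bW l = 0 := by
      rw [Fintype.sum_prod_type, Finset.sum_eq_single z.1 (fun i _ hi => by simp [hEv, Ne.symm hi])
        (by simp)] at h
      apply Subtype.ext
      rw [Submodule.coe_sum, Submodule.coe_zero, ← h]
      exact Finset.sum_congr rfl fun l _ => by rw [hEv]; simp [v, hW]
    exact Fintype.linearIndependent_iff.1 bW.linearIndependent _ h2 z.2
  have hsp : ⊤ ≤ Submodule.span F (Set.range v) := by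
    intro x _
    have hx : x = ∑ i : Fin d, φ (E i 0) *ᵥ (φ (E 0 i) *ᵥ x) := by
      simp only [Matrix.mulVec_mulVec, ← map_mul, ← Matrix.sum_mulVec, ← map_sum]
      have hs : ∑ i : Fin d, E i 0 * E 0 i = 1 := by
        simp only [E, Matrix.single_mul_single_same, one_mul]
        ext a b
        by_cases hab : a = b
        · subst hab; simp [Matrix.sum_apply, Matrix.single_apply]
        · rw [Matrix.sum_apply, Matrix.one_apply_ne hab]
          exact Finset.sum_eq_zero fun c _ => if_neg fun h => hab (h.1.symm.trans h.2)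
      rw [hs, map_one, Matrix.one_mulVec]
    rw [hx]
    refine Submodule.sum_mem _ fun i _ => ?_
    have hmem : φ (E 0 i) *ᵥ x ∈ W :=
      ⟨φ (E 0 i) *ᵥ x, by rw [Matrix.toLin'_apply, Matrix.mulVec_mulVec, ← map_mul]; simp [E]⟩
    have hrepr := congrArg (fun w : W => φ (E i 0) *ᵥ (w : ι → F)) (bW.sum_repr ⟨_, hmem⟩)
    simp only [Submodule.coe_sum, Submodule.coe_smul, Matrix.mulVec_sum, Matrix.mulVec_smul] at hrepr
    rw [← hrepr]
    exact Submodule.sum_mem _ fun l _ => Submodule.smul_mem _ _ (Submodule.subset_span ⟨(i, l), rfl⟩)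
  refine ⟨_, Module.Basis.mk hli hsp, fun X j l => ?_⟩
  simp only [Module.Basis.coe_mk]
  show φ X *ᵥ (φ (E j 0) *ᵥ _) = _
  have hX : X * E j 0 = ∑ i, X i j • E i 0 := by
    ext a b
    simp [E, Matrix.mul_apply, Matrix.sum_apply, Matrix.single_apply]
    by_cases hb : (0 : Fin d) = b
    · simp [hb]
    · simp [hb]
  rw [Matrix.mulVec_mulVec, ← map_mul, hX, map_sum, Matrix.sum_mulVec]
  exact Finset.sum_congr rfl fun i _ => by rw [map_smul, Matrix.smul_mulVec]

/-- A copy of a matrix algebra is a tensor factor. -/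
theorem exists_tensor {d : ℕ} [NeZero d] (φ : Matrix (Fin d) (Fin d) F →ₐ[F] Matrix ι ι F) :
    ∃ (k : ℕ) (e : ι ≃ Fin d × Fin k) (P : GLm ι F),
      ∀ X, φ X = tconj e P (X ⊗ₖ (1 : Matrix (Fin k) (Fin k) F)) := by
  obtain ⟨k, b, hb⟩ := exists_tensor_basis φ
  let e : ι ≃ Fin d × Fin k := Fintype.equivOfCardEq (by
    rw [← Module.finrank_eq_card_basis b, Module.finrank_pi])
  let M : Matrix ι ι F := Matrix.of fun i j => b (e j) i
  have hM : IsUnit M := by
    rw [← Matrix.linearIndependent_cols_iff_isUnit]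
    exact b.linearIndependent.comp e e.injective
  refine ⟨k, e, hM.unit, fun X => ?_⟩
  have key : φ X * M = M * (X ⊗ₖ (1 : Matrix (Fin k) (Fin k) F)).submatrix e e := by
    ext i j
    have h1 : (φ X * M) i j = (φ X *ᵥ b (e j)) i := rfl
    rw [h1, ← Prod.mk.eta (p := e j), hb, Matrix.mul_apply, ← e.symm.sum_comp, Fintype.sum_prod_type,
      Finset.sum_apply]
    refine Finset.sum_congr rfl fun a _ => ?_
    rw [Finset.sum_eq_single (e j).2 (fun l _ hl => by
      simp [M, Matrix.kroneckerMap_apply, Matrix.one_apply, hl]) (by simp)]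
    simp [M, Matrix.kroneckerMap_apply, mul_comm]
  rw [tconj_apply]
  change φ X = M * _ * _
  rw [← key, mul_assoc]
  have : M * ((hM.unit⁻¹ : GLm ι F) : Matrix ι ι F) = 1 := hM.mul_val_inv
  rw [this, mul_one]

/-- Skolem–Noether for a matrix algebra. -/
theorem exists_conj {d : ℕ} [NeZero d] (φ : Matrix (Fin d) (Fin d) F →ₐ[F] Matrix (Fin d) (Fin d) F) :
    ∃ a : GLm (Fin d) F, ∀ X, φ X = conjAlg a X := by
  obtain ⟨k, b, hb⟩ := exists_tensor_basis φ
  have hk : k = 1 := by
    have h := Module.finrank_eq_card_basis b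
    rw [Module.finrank_pi, Fintype.card_prod, Fintype.card_fin, Fintype.card_fin] at h
    exact Nat.eq_of_mul_eq_mul_left (Nat.pos_of_ne_zero (NeZero.ne d)) (by omega)
  subst hk
  let M : Matrix (Fin d) (Fin d) F := Matrix.of fun i j => b (j, 0) i
  have hM : IsUnit M := by
    rw [← Matrix.linearIndependent_cols_iff_isUnit]
    exact b.linearIndependent.comp (fun j => (j, (0 : Fin 1))) (fun x y h => congrArg Prod.fst h)
  refine ⟨hM.unit, fun X => ?_⟩
  have key : φ X * M = M * X := by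
    ext i j
    have h1 : (φ X * M) i j = (φ X *ᵥ b (j, 0)) i := rfl
    rw [h1, hb, Matrix.mul_apply, Finset.sum_apply]
    exact Finset.sum_congr rfl fun a _ => by simp [M, mul_comm]
  rw [conjAlg_apply]
  change φ X = M * X * _
  rw [← key, mul_assoc]
  have : M * ((hM.unit⁻¹ : GLm _ F) : Matrix (Fin d) (Fin d) F) = 1 := hM.mul_val_inv
  rw [this, mul_one]

/-- The centraliser of the first tensor factor is the second one. -/
theorem centralizer_tensor {d k : ℕ} [NeZero d] (e : ι ≃ Fin d × Fin k) (P : GLm ι F) {Y : Matrix ι ι F}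
    (hY : ∀ X, tconj e P (X ⊗ₖ (1 : Matrix (Fin k) (Fin k) F)) * Y =
      Y * tconj e P (X ⊗ₖ (1 : Matrix (Fin k) (Fin k) F))) :
    ∃ b : Matrix (Fin k) (Fin k) F, Y = tconj e P ((1 : Matrix (Fin d) (Fin d) F) ⊗ₖ b) := by
  obtain ⟨Z, rfl⟩ := (tconj e P).surjective Y
  refine ⟨Matrix.of fun l m => Z (0, l) (0, m), congrArg _ ?_⟩
  ext ⟨j, l⟩ ⟨c, m⟩
  have h := hY (Matrix.single 0 j 1)
  rw [← map_mul, ← map_mul] at h
  have h2 := congrFun (congrFun ((tconj e P).injective h) (0, l)) (c, m)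
  rw [Matrix.mul_apply, Matrix.mul_apply, Finset.sum_eq_single (j, l), Finset.sum_eq_single (0, m)] at h2
  · simp [Matrix.kroneckerMap_apply, Matrix.single_apply] at h2
    simp [Matrix.kroneckerMap_apply, Matrix.one_apply]
    rw [h2]
  · rintro ⟨a, x⟩ _ hne
    by_cases ha : a = 0
    · subst ha
      have : x ≠ m := fun h => hne (by rw [h])
      simp [Matrix.kroneckerMap_apply, this]
    · simp [Matrix.kroneckerMap_apply, Matrix.single_apply, Ne.symm ha]
  · simp
  · rintro ⟨a, x⟩ _ hne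
    by_cases ha : a = j
    · subst ha
      have : l ≠ x := fun h => hne (by rw [h])
      simp [Matrix.kroneckerMap_apply, this]
    · simp [Matrix.kroneckerMap_apply, Matrix.single_apply, Ne.symm ha]
  · simp

/-- The normaliser of a tensor factor consists of Kronecker products. -/
theorem mem_tensorProductSubgroup_of_normalizes {d k : ℕ} [NeZero d] [NeZero k] (e : ι ≃ Fin d × Fin k)
    (P : GLm ι F) {h : GLm ι F}
    (hh : ∀ X, ∃ X', conjAlg h (tconj e P (X ⊗ₖ (1 : Matrix (Fin k) (Fin k) F))) =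
      tconj e P (X' ⊗ₖ (1 : Matrix (Fin k) (Fin k) F))) :
    h ∈ Cfsg.Geo.tensorProductSubgroup d k e P := by
  let φ : Matrix (Fin d) (Fin d) F →ₐ[F] Matrix ι ι F :=
    AlgHom.ofLinearMap
      { toFun := fun X => tconj e P (X ⊗ₖ (1 : Matrix (Fin k) (Fin k) F))
        map_add' := fun X Y => by rw [Matrix.add_kronecker, map_add]
        map_smul' := fun c X => by rw [Matrix.smul_kronecker, map_smul]; rfl }
      (by simp)
      (fun X Y => by
        show tconj e P ((X * Y) ⊗ₖ 1) = tconj e P (X ⊗ₖ 1) * tconj e P (Y ⊗ₖ 1)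
        rw [← map_mul, ← Matrix.mul_kronecker_mul, one_mul])
  have hφ : ∀ X, φ X = tconj e P (X ⊗ₖ 1) := fun X => rfl
  have hinj : Function.Injective φ := by
    intro X Y hXY
    rw [hφ, hφ] at hXY
    have h2 := (tconj e P).injective hXY
    ext i j
    have h3 := congrFun (congrFun h2 (i, 0)) (j, 0)
    simpa [Matrix.kroneckerMap_apply] using h3
  let α : Matrix (Fin d) (Fin d) F →ₐ[F] Matrix (Fin d) (Fin d) F :=
    ((AlgEquiv.ofInjective φ hinj).symm.toAlgHom).comp
      (((conjAlg h).toAlgHom.comp φ).codRestrict φ.range fun X => by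
        obtain ⟨X', hX'⟩ := hh X
        exact ⟨X', hX'.symm⟩)
  have hα : ∀ X, φ (α X) = conjAlg h (φ X) := by
    intro X
    exact congrArg Subtype.val ((AlgEquiv.ofInjective φ hinj).apply_symm_apply
      ((((conjAlg h).toAlgHom.comp φ).codRestrict φ.range _) X))
  obtain ⟨a, ha⟩ := exists_conj α
  set C := φ ((a⁻¹ : GLm _ F) : Matrix _ _ F) * (h : Matrix ι ι F) with hC
  have hcomm : ∀ X, tconj e P (X ⊗ₖ (1 : Matrix (Fin k) (Fin k) F)) * C = C * tconj e P (X ⊗ₖ (1 : Matrix (Fin k) (Fin k) F)) := by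
    intro X
    rw [← hφ, hC, ← mul_assoc, ← map_mul]
    have h1 : (h : Matrix ι ι F) * φ X = φ (α X) * h := by
      rw [hα, conjAlg_apply, mul_assoc _ _ (h : Matrix ι ι F), ← Units.val_mul, inv_mul_cancel, Units.val_one, mul_one]
    rw [mul_assoc _ (h : Matrix ι ι F) (φ X), h1, ← mul_assoc, ← map_mul, ha, conjAlg_apply, ← mul_assoc,
      ← mul_assoc, ← Units.val_mul, inv_mul_cancel, Units.val_one, one_mul]
  obtain ⟨b, hb⟩ := centralizer_tensor e P hcomm
  have hbu : IsUnit b := by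
    have hCu : IsUnit C := ((a⁻¹).isUnit.map φ).mul h.isUnit
    rw [hb, isUnit_map_iff, Matrix.isUnit_iff_isUnit_det, Matrix.det_kronecker] at hCu
    rw [Matrix.isUnit_iff_isUnit_det]
    have := isUnit_of_mul_isUnit_right hCu
    exact (isUnit_pow_iff (by simp [NeZero.ne d])).1 this
  refine (mem_tensorProductSubgroup_iff e P h).2 ⟨a, hbu.unit, ?_⟩
  have hh' : (h : Matrix ι ι F) = φ (a : Matrix _ _ F) * C := by
    rw [hC, ← mul_assoc, ← map_mul, ← Units.val_mul, mul_inv_cancel, Units.val_one, map_one, one_mul]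
  rw [hh', hb, hφ, ← map_mul, ← Matrix.mul_kronecker_mul, one_mul, mul_one]
  rfl

lemma tensorProductSubgroup_comm {n₁ n₂ : ℕ} (e : ι ≃ Fin n₁ × Fin n₂) (P : GLm ι F) :
    Cfsg.Geo.tensorProductSubgroup n₁ n₂ e P ≤
      Cfsg.Geo.tensorProductSubgroup n₂ n₁ (e.trans (Equiv.prodComm _ _)) P := by
  intro g hg
  obtain ⟨a, b, h⟩ := (mem_tensorProductSubgroup_iff e P g).1 hg
  refine (mem_tensorProductSubgroup_iff _ P g).2 ⟨b, a, ?_⟩
  rw [h, tconj_apply, tconj_apply]
  congr 2
  ext x y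
  simp [Matrix.kroneckerMap_apply, mul_comm]

end CfsgLib.Aschbacher
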